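import Mathlib
import Cfsg.Agent.Lib.K3P.Defs
import Cfsg.Agent.S2934
import Cfsg.Agent.Lib.M75.EDefs
import Cfsg.Agent.Lib.LocEven.CharP

/-! K3P package I3, see `blueprint/K3P/README.md`. -/

set_option autoImplicit false
set_option linter.unusedSectionVars false
set_option linter.unusedVariables false

namespace K3P

open Cfsg Subgroup H71KM
open scoped commutatorElement

universe u

variable {G : Type u} [Group G] [Finite G] {p : ℕ} {Q K S Z X : Subgroup G} {h : G} {ψ : V3 → G}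

namespace I3_

theorem norm_zp {t : G} (tt : t * t = 1) (t1 : t ≠ 1) : 𝐍(zpowers t) = Ce t := by
  refine le_antisymm (fun g hg => ?_) ?_
  · have := (mem_normalizer_iff.1 hg t).1 (mem_zpowers t)
    rcases (mem_zp tt).1 this with e | e
    · exact absurd (by simpa using e) t1
    · exact mc_of_conj e
  · rw [Ce, ← H70.centralizer_zpowers]
    exact centralizer_le_normalizer _

end I3_

theorem eh_of (B : B2 G p) (hR : R1 G) (hr : PRankLE 3 2 G) {t : G} {E : Subgroup G} (ht : orderOf t = 2)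
    (hE : EA 3 E) (h9 : Nat.card E = 9) (hle : E ≤ Ce t) :
    ∃ Q : Subgroup G, H16M.EH Q t ∧ (Nat.card Q = 2 ^ 5 ∨ Nat.card Q = 2 ^ 7 ∨ Nat.card Q = 2 ^ 9) := by
  have : Fact (Nat.Prime 3) := ⟨Nat.prime_three⟩
  have tt : t * t = 1 := by rw [← pow_two, ← ht, pow_orderOf_eq_one]
  have t1 : t ≠ 1 := fun e => by rw [e, orderOf_one] at ht; omega
  have ch : H70.CharP 2 (Ce t) := by
    rw [← I3_.norm_zp tt t1]
    exact H70.charP_iff.2 (B.c2.2 _ (isPGroup_zp tt) (fun e => t1 (mem_bot.1 (e ▸ mem_zpowers t))))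
  obtain ⟨Q, hQ⟩ : ∃ Q, Q = pCoreOf 2 (Ce t) := ⟨_, rfl⟩
  have pQ : IsPGroup 2 Q := hQ ▸ H70.isPGroup_pCoreOf 2 _
  have Qle : Q ≤ Ce t := hQ ▸ H70.pCoreOf_le 2 _
  have nQ : Ce t ≤ 𝐍(Q) := hQ ▸ H70.le_normalizer_pCoreOf 2 _
  have cQ : ∀ g ∈ Ce t, (∀ x ∈ Q, x * g = g * x) → g ∈ Q := fun g hg hc => by
    rw [hQ] at hc ⊢
    exact ch ⟨hg, mem_centralizer_iff.2 hc⟩
  have tQ : t ∈ Q := cQ t (mc.2 rfl) fun x hx => mc.1 (Qle hx)
  have w3 : ∀ y, y ^ 3 = 1 → y ≠ 1 → y * t = t * y → ∀ s ∈ Q, s * s = 1 → y * s = s * y → s = 1 ∨ s = t :=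
    fun y y3 y1 yt s hs s2 ys => by
      rcases hR y s t (orderOf_eq_prime y3 y1) s2 tt (mc.1 (Qle hs)) ys.symm yt.symm with e | e | e
      · exact .inl e
      · exact absurd e t1
      · exact .inr e
  let φ : E →* MulAut Q := Q.normalizerMonoidHom.comp (inclusion (hle.trans nQ))
  have hφ : ∀ (b : E) (x : Q), φ b x = x → (x : G) ∈ centralizer {(b : G)} := fun b x e =>
    mc_symm (mc_of_conj (congrArg Subtype.val e))
  have inj : Function.Injective φ := (injective_iff_map_eq_one φ).2 fun b hb =>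
    Subtype.ext (eq_one_of_mem (p := 2) (q := 3) (by decide) pQ hE.isPGroup
      (cQ b (hle b.2) fun x hx => mc.1 (hφ b ⟨x, hx⟩ (by rw [hb]; rfl))) b.2)
  have main := Cfsg.Agent.S2934.result pQ (p := 3) (by decide) φ.range
    (hE.isPGroup.of_surjective _ φ.rangeRestrict_surjective) ⟨⟨?_⟩⟩ (fun hc => ?_) ?_
  · obtain ⟨-, ex, cd, -⟩ := main
    have es : H95.ES Q t := H95.ES_of_central ex tQ t1 fun x hx => mc.1 (Qle hx)
    refine ⟨Q, ⟨B.simple, B.nab, ⟨es, fun g hg => ?_, fun g hg => nQ (mc.2 hg)⟩, fun N pN cN nN => ?_, w3,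
      ⟨E, hE, h9, hle⟩, fun ⟨D, s, h1, h2, _⟩ => ?_⟩, cd⟩
    · exact es.nondeg g (cQ g (mc.2 (hg t tQ).symm) hg) fun y hy => (hg y hy).symm
    · rw [hQ]
      exact H70.le_pCoreOf pN (fun x hx => mc.2 (cN x hx)) fun g hg =>
        mem_normalizer_fintype fun x hx => nN g (mc.1 hg) x hx
    · have := hr D h1.1 h1.2
      omega
  · rintro ⟨_, a, rfl⟩ ⟨_, b, rfl⟩
    refine Subtype.ext ?_
    show φ a * φ b = φ b * φ a
    rw [← map_mul, ← map_mul, hE.1.1.1 a b]
  · obtain ⟨x, hx⟩ := (isCyclic_of_surjective _ (MonoidHom.ofInjective inj).symm.surjective :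
      IsCyclic E).exists_generator
    have h1 := orderOf_eq_card_of_forall_mem_zpowers hx
    have h2 := orderOf_dvd_of_pow_eq_one (Subtype.ext (hE.2 x x.2) : x ^ 3 = 1)
    rw [h1, h9] at h2
    omega
  · rintro _ ⟨b, rfl⟩ b1 x y hx hy ex ey
    have k : ∀ x : Q, orderOf x = 2 → φ b x = x → (x : G) = t := fun x hx e =>
      (w3 b (hE.2 b b.2) (fun e => b1 (by rw [show b = 1 from Subtype.ext e, map_one])) (mc.1 (hle b.2)) x x.2
        (by rw [← coe_mul, ← pow_two, ← hx, pow_orderOf_eq_one, coe_one]) (mc.1 (hφ b x e)).symm).resolve_left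
        fun e => by rw [show x = 1 from Subtype.ext e, orderOf_one] at hx; omega
    exact Subtype.ext ((k x hx ex).trans (k y hy ey).symm)

end K3P
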