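import Mathlib
import Cfsg.Agent.Lib.K3P.Defs
import Cfsg.Agent.Lib.GL.Simple
import Cfsg.Agent.S0494
import Cfsg.Agent.S3050

/-! K3P package TNE, see `blueprint/K3P/README.md`. -/

set_option autoImplicit false
set_option linter.unusedSectionVars false
set_option linter.unusedVariables false

namespace K3P

open Cfsg Subgroup H71KM
open scoped commutatorElement

universe u

variable {G : Type u} [Group G] [Finite G] {p : ℕ} {Q K S Z X : Subgroup G} {h : G} {ψ : V3 → G}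

namespace TNE_

theorem sl_psl {F : Type} [Field F] (h0 : (2 : F) = 0) :
    Nonempty (Matrix.SpecialLinearGroup (Fin 2) F ≃* Matrix.ProjectiveSpecialLinearGroup (Fin 2) F) := by
  have hcen : Subgroup.center (Matrix.SpecialLinearGroup (Fin 2) F) = ⊥ := by
    rw [eq_bot_iff]
    intro B hB
    obtain ⟨r, hr, e⟩ := Matrix.SpecialLinearGroup.mem_center_iff.1 hB
    have hr1 : r = 1 := by
      have : (r - 1) ^ 2 = 0 := by
        rw [Fintype.card_fin] at hr
        linear_combination hr + (1 - r) * h0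
      exact sub_eq_zero.1 (pow_eq_zero_iff (two_ne_zero) |>.1 this)
    rw [Subgroup.mem_bot]
    apply Subtype.ext
    rw [← e, hr1, map_one]
    rfl
  exact ⟨MulEquiv.ofBijective (QuotientGroup.mk' _) ⟨by
    rw [← MonoidHom.ker_eq_bot_iff, QuotientGroup.ker_mk', hcen], QuotientGroup.mk'_surjective _⟩⟩

theorem model {L : Type*} [Group L] {q : ℕ}
    (hL : (q = 4 ∧ Nonempty (L ≃* alternatingGroup (Fin 5))) ∨ (q = 8 ∧ L2 8 L)) :
    ∃ (n : ℕ) (F : Type) (_ : Field F) (_ : Fintype F), 2 ≤ n ∧ Fintype.card F = 2 ^ n ∧ q = 2 ^ n ∧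
      3 ∣ Nat.card L ∧ Nonempty (L ≃* Matrix.SpecialLinearGroup (Fin 2) F) := by
  rcases hL with ⟨rfl, ⟨e⟩⟩ | ⟨rfl, F, _, _, hF, ⟨e⟩⟩
  · let _ := Fintype.ofFinite (GaloisField 2 2)
    have hF : Nat.card (GaloisField 2 2) = 4 := GaloisField.card 2 2 two_ne_zero
    obtain ⟨i⟩ := sl_psl (F := GaloisField 2 2) CharTwo.two_eq_zero
    have := H10.isSimpleGroup_PSL_fin (F := GaloisField 2 2) 2 le_rfl fun _ => hF.ge
    have := i.isSimpleGroup
    have hc : Nat.card (Matrix.SpecialLinearGroup (Fin 2) (GaloisField 2 2)) = 60 := by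
      rw [H10.card_SL_two, hF]
    obtain ⟨j⟩ := Cfsg.Agent.S0494.result hc
    exact ⟨2, _, _, _, le_rfl, Nat.card_eq_fintype_card.symm.trans hF, rfl,
      by rw [Nat.card_congr (e.trans j.symm).toEquiv, hc]; norm_num, ⟨e.trans j.symm⟩⟩
  · have h0 : (2 : F) = 0 := by
      have := FiniteField.cast_card_eq_zero F
      rw [hF] at this
      exact pow_eq_zero_iff (n := 3) (by norm_num) |>.1 (by rw [← this]; norm_num)
    obtain ⟨i⟩ := sl_psl h0
    exact ⟨3, F, _, _, by norm_num, hF, rfl, by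
      rw [Nat.card_congr (e.trans i.symm).toEquiv, H10.card_SL_two, Nat.card_eq_fintype_card, hF]
      norm_num, ⟨e.trans i.symm⟩⟩

end TNE_

theorem ea_of (C : Sec Q K) {L : Type*} [Group L] (hq : Quo Q K L) {q : ℕ}
    (hL : (q = 4 ∧ Nonempty (L ≃* alternatingGroup (Fin 5))) ∨ (q = 8 ∧ L2 8 L)) (hf : Fpf Q) :
    EA 2 Q ∧ ∃ k : ℕ, 1 ≤ k ∧ Nat.card Q = (q ^ k) ^ 2 := by
  obtain ⟨n, F, _, _, hn, hF, rfl, h3, ⟨e⟩⟩ := TNE_.model hL
  obtain ⟨f, hs, hk⟩ := hq
  have ker : f.ker = Q.subgroupOf K := Subgroup.ext fun k => hk k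
  have : Fact (Nat.Prime 3) := ⟨Nat.prime_three⟩
  obtain ⟨x, hx⟩ := exists_prime_orderOf_dvd_card' (G := K) 3 (h3.trans (card_dvd_of_surjective f hs))
  obtain ⟨⟨h1, h2⟩, k, V, hV, hi, hsup⟩ := Cfsg.Agent.S3050.result f.ker (ker ▸ C.pg.comap_subtype) n hn F hF
    ((QuotientGroup.quotientKerEquivOfSurjective f hs).trans e) x hx fun v hv c => Subtype.ext
      (hf x (C.kle x.2) ((Subgroup.orderOf_coe x).trans hx) v ((hk v).1 hv)
        (congrArg Subtype.val (mul_inv_eq_iff_eq_mul.1 c)))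
  have cm : ∀ a ∈ f.ker, ∀ b ∈ f.ker, a * b = b * a := fun a ha b hb =>
    congrArg Subtype.val (h1.is_comm.comm (⟨a, ha⟩ : f.ker) ⟨b, hb⟩)
  have hcomm : Pairwise fun i j : Fin k => ∀ x y : K, x ∈ V i → y ∈ V j → Commute x y :=
    fun i j _ x y hx hy => cm x ((hV i).1 hx) y ((hV j).1 hy)
  have e1 : (∀ i, V i) ≃* f.ker := (MonoidHom.ofInjective
    (injective_noncommPiCoprod_of_iSupIndep (hcomm := hcomm) hi)).trans
      (MulEquiv.subgroupCongr ((noncommPiCoprod_range (hcomm := hcomm)).trans hsup))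
  have cV : ∀ i, Nat.card (V i) = (2 ^ n) ^ 2 := fun i => by
    obtain ⟨-, -, ρ, φ, -, h4, h5, -⟩ := (hV i).2.2
    rw [Nat.card_congr (Equiv.ofBijective φ ⟨(injective_iff_map_eq_one φ).2 fun u hu =>
      Subtype.ext (mem_bot.1 ((h5 u).1 hu)), h4⟩), Nat.card_congr Multiplicative.toAdd, Nat.card_fun,
      Nat.card_eq_fintype_card, hF, Nat.card_eq_fintype_card, Fintype.card_fin]
  have cQ : Nat.card Q = ((2 ^ n) ^ k) ^ 2 := by
    rw [← Nat.card_congr (subgroupOfEquivOfLe C.le).toEquiv, ← ker, ← Nat.card_congr e1.toEquiv, Nat.card_pi,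
      Finset.prod_congr rfl fun i _ => cV i, Finset.prod_const, Finset.card_univ, Fintype.card_fin,
      ← pow_mul, ← pow_mul (2 ^ n), mul_comm]
  refine ⟨⟨⟨⟨fun a b => Subtype.ext (congrArg (Subtype.val : K → G)
    (cm ⟨a, C.le a.2⟩ ((hk _).2 a.2) ⟨b, C.le b.2⟩ ((hk _).2 b.2)))⟩⟩,
    fun b hb => congrArg Subtype.val (h2 ⟨b, C.le hb⟩ ((hk _).2 hb))⟩, k, ?_, cQ⟩
  by_contra h0
  rw [show k = 0 by omega, pow_zero, one_pow] at cQ
  exact C.ne (card_eq_one.1 cQ)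

end K3P
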